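import Groth.Agent.Cube.Spread
import Groth.Agent.Cube.Seesaw

/-!
# Trivialising invertible modules along an affine morphism with a section
-/

set_option autoImplicit false
set_option backward.isDefEq.respectTransparency false
set_option maxHeartbeats 1000000
universe u

open CategoryTheory CategoryTheory.Limits AlgebraicGeometry TopologicalSpace

noncomputable section

namespace Groth.Agent.AffPic52

open Groth.Agent.QCoh Groth.Agent.Props.GenLocus Groth.Agent.Props.GenTensor Groth.Agent.Props.GenPull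
open Groth.Agent.Cube Groth.Agent.Cube.Spread Groth.Agent.Cube.Seesaw

variable {W Z : Scheme.{u}}

/-- Spreading out along an affine morphism. -/
theorem exists_gen_nhd_of_affine (π : W ⟶ Z) [IsAffineHom π] {L : W.Modules} (hL : PicF.IsInvertible L) (z : Z)
    {W' : Scheme.{u}} {i : W' ⟶ W} {q' : W' ⟶ Spec (Z.presheaf.stalk z)}
    (H : IsPullback i q' π (Z.fromSpecStalk z))
    (h : Nonempty ((Scheme.Modules.pullback i).obj L ≅ Coh.structureModule W')) :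
    ∃ (V : Z.Opens) (_ : z ∈ V) (g : Γ(L, π ⁻¹ᵁ V)), IsGen L (π ⁻¹ᵁ V) g := by
  classical
  obtain ⟨V, hV, hz, -⟩ := exists_isAffineOpen_mem_and_subset (U := (⊤ : Z.Opens)) (Opens.mem_top z)
  have hcompact : IsCompact (π ⁻¹ᵁ V : Set W) := π.isCompact_preimage hV.isCompact
  choose U e hxU hUle hU he using show ∀ x : (π ⁻¹ᵁ V : W.Opens), ∃ (U : W.Opens) (e : Γ(L, U)),
      x.1 ∈ U ∧ U ≤ π ⁻¹ᵁ V ∧ IsAffineOpen U ∧ IsGen L U e from fun x => by
    obtain ⟨V', e, hxV, he⟩ := exists_isGen hL x.1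
    obtain ⟨U, hU, hxU, hUV⟩ := exists_isAffineOpen_mem_and_subset (show x.1 ∈ V' ⊓ π ⁻¹ᵁ V from ⟨hxV, x.2⟩)
    exact ⟨U, res L (hUV.trans inf_le_left) e, hxU, hUV.trans inf_le_right, hU, he.restrict _⟩
  obtain ⟨F, hF⟩ := hcompact.elim_finite_subcover (fun p => ((U p : W.Opens) : Set W)) (fun p => (U p).2)
    (fun x hx => Set.mem_iUnion.mpr ⟨⟨x, hx⟩, hxU ⟨x, hx⟩⟩)
  choose u hu using fun p q : F =>
    ((he q.1).exists_eq (inf_le_right : U p.1 ⊓ U q.1 ≤ U q.1) (res L inf_le_left (e p.1))).exists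
  obtain ⟨v, hv, hv'⟩ := exists_coboundary_of_iso i (U := fun p : F => U p.1) (fun p => he p.1) u hu h
  choose w hw using fun p => (hv p).exists_right_inv
  set S := (hV.primeIdealOf ⟨z, hz⟩).asIdeal.primeCompl
  choose a s hs ha using fun p : F => (exists_loc π H hV hz (hU p.1) (hUle p.1)).1 (w p)
  let Sall : Γ(Z, V) := ∏ p, s p
  have hSall : Sall ∈ S := prod_mem fun p _ => hs p
  let a' : ∀ p : F, Γ(W, U p.1) := fun p => a p * π.appLE V _ (hUle p.1) (∏ r ∈ Finset.univ.erase p, s r)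
  have ha' : ∀ p, i.app _ (a' p) = w p * i.app _ (π.appLE V _ (hUle p.1) Sall) := fun p => by
    simp only [a', map_mul, ha, Sall]
    rw [mul_assoc, ← map_mul (i.app (U p.1)).hom, ← map_mul (π.appLE V (U p.1) (hUle p.1)).hom,
      Finset.mul_prod_erase _ _ (Finset.mem_univ p)]
  have hle2 : ∀ p q : F, U p.1 ⊓ U q.1 ≤ π ⁻¹ᵁ V := fun p q => inf_le_left.trans (hUle p.1)
  have hres : ∀ {U U' : W.Opens} (h : U' ≤ U) (hle : U ≤ π ⁻¹ᵁ V) (r : Γ(Z, V)),
      rres h (π.appLE V U hle r) = π.appLE V U' (h.trans hle) r := fun h hle r => by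
    rw [← CommRingCat.comp_apply, Scheme.Hom.appLE_map]
  choose t ht ht' using fun p q : F => (exists_loc π H hV hz
      (inf_affine_of_le π hV (hU p.1) (hU q.1) (hUle p.1) (hUle q.1)) (hle2 p q)).2
    (rres inf_le_left (a' p) * u p q) (rres inf_le_right (a' q)) (by
      rw [map_mul, app_rres, app_rres, ha', ha', map_mul, map_mul, ← app_rres i (inf_le_left : U p.1 ⊓ U q.1 ≤ U p.1),
        ← app_rres i (inf_le_right : U p.1 ⊓ U q.1 ≤ U q.1), hres inf_le_left (hUle p.1), hres inf_le_right (hUle q.1)]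
      have hq := congrArg (rres (i.preimage_mono (inf_le_right : U p.1 ⊓ U q.1 ≤ U q.1))) (hw q)
      have hp := congrArg (rres (i.preimage_mono (inf_le_left : U p.1 ⊓ U q.1 ≤ U p.1))) (hw p)
      rw [map_mul, map_one] at hp hq
      rw [← hv' p q] at hp
      generalize i.app _ (π.appLE V _ _ Sall) = G
      calc rres (i.preimage_mono inf_le_left) (w p) * G * i.app _ (u p q)
          = rres (i.preimage_mono inf_le_left) (w p) * G * i.app _ (u p q) *
            (rres (i.preimage_mono inf_le_right) (v q) * rres (i.preimage_mono inf_le_right) (w q)) := by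
            rw [hq, mul_one]
        _ = (i.app _ (u p q) * rres (i.preimage_mono inf_le_right) (v q) * rres (i.preimage_mono inf_le_left) (w p)) *
            (rres (i.preimage_mono inf_le_right) (w q) * G) := by ring
        _ = _ := by rw [hp, one_mul])
  let Tall : Γ(Z, V) := ∏ pq : F × F, t pq.1 pq.2
  have hTall : Tall ∈ S := prod_mem fun pq _ => ht pq.1 pq.2
  let A : ∀ p : F, Γ(W, U p.1) := fun p => π.appLE V _ (hUle p.1) Tall * a' p
  have hA : ∀ p q, rres inf_le_left (A p) * u p q = rres (inf_le_right : U p.1 ⊓ U q.1 ≤ U q.1) (A q) := by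
    intro p q
    obtain ⟨c, hc⟩ := Finset.dvd_prod_of_mem (fun pq : F × F => t pq.1 pq.2) (Finset.mem_univ (p, q))
    simp only [A, map_mul, hres]
    rw [show Tall = t p q * c from hc, map_mul, mul_assoc, mul_assoc]
    rw [mul_left_comm (π.appLE V _ (hle2 p q) (t p q)), ht', mul_left_comm]
    ring
  -- inverses, up to a denominator
  choose b s₁ hs₁ hb using fun p : F => (exists_loc π H hV hz (hU p.1) (hUle p.1)).1 (v p)
  choose t₁ ht₁ ht₁' using fun p : F => (exists_loc π H hV hz (hU p.1) (hUle p.1)).2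
    (a' p * b p) (π.appLE V _ (hUle p.1) (Sall * s₁ p)) (by
      rw [map_mul, ha', hb, map_mul, map_mul]
      generalize i.app _ (π.appLE V _ _ Sall) = G
      generalize i.app _ (π.appLE V _ _ (s₁ p)) = G'
      calc w p * G * (v p * G') = (v p * w p) * (G * G') := by ring
        _ = G * G' := by rw [hw p, one_mul])
  let d : Γ(Z, V) := Tall * Sall * ∏ p, (t₁ p * s₁ p)
  have hd : d ∈ S := mul_mem (mul_mem hTall hSall) (prod_mem fun p _ => mul_mem (ht₁ p) (hs₁ p))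
  obtain ⟨σ, hσ⟩ := QCoh.exists_glue L (U := fun p : F => U p.1) (V := π ⁻¹ᵁ V) (fun p => hUle p.1)
    (fun x hx => by
      obtain ⟨p, hp, hxp⟩ := Set.mem_iUnion₂.mp (hF hx)
      exact Opens.mem_iSup.mpr ⟨⟨p, hp⟩, hxp⟩)
    (fun p => A p • e p.1) (fun p q => by
      rw [res_smul, res_smul, hu p q, smul_smul, hA])
  have hzd : z ∈ Z.basicOpen d := by
    refine (Z.mem_basicOpen _ z hz).mpr ?_
    let : Algebra Γ(Z, V) (Z.presheaf.stalk z) := (Z.presheaf.germ V z hz).hom.toAlgebra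
    have : IsLocalization S (Z.presheaf.stalk z) := hV.isLocalization_stalk ⟨z, hz⟩
    exact IsLocalization.map_units (M := S) (Z.presheaf.stalk z) ⟨d, hd⟩
  have hVd : π ⁻¹ᵁ Z.basicOpen d ≤ π ⁻¹ᵁ V := π.preimage_mono (Z.basicOpen_le d)
  refine ⟨Z.basicOpen d, hzd, res L hVd σ, IsGen.of_local fun x hx => ?_⟩
  obtain ⟨p, hp, hxp⟩ := Set.mem_iUnion₂.mp (hF (hVd hx))
  let p₀ : F := ⟨p, hp⟩
  refine ⟨U p ⊓ π ⁻¹ᵁ Z.basicOpen d, inf_le_right, ⟨hxp, hx⟩, ?_⟩
  have hdu : IsUnit (rres (inf_le_left : U p ⊓ π ⁻¹ᵁ Z.basicOpen d ≤ U p)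
      (π.appLE V (U p) (hUle p) d)) := by
    have h1 : IsUnit (π.appLE (Z.basicOpen d) (U p ⊓ π ⁻¹ᵁ Z.basicOpen d) inf_le_right
        (rres (Z.basicOpen_le d) d)) :=
      (RingedSpace.isUnit_res_basicOpen _ _).map _
    rw [← CommRingCat.comp_apply, Scheme.Hom.map_appLE] at h1
    rw [← CommRingCat.comp_apply, Scheme.Hom.appLE_map]
    exact h1
  have hAu : IsUnit (rres (inf_le_left : U p ⊓ π ⁻¹ᵁ Z.basicOpen d ≤ U p) (A p₀)) := by
    refine isUnit_of_dvd_unit (map_dvd _ ?_) hdu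
    obtain ⟨c, hc⟩ := Finset.dvd_prod_of_mem (fun q : F => t₁ q * s₁ q) (Finset.mem_univ p₀)
    refine ⟨b p₀ * π.appLE V _ (hUle p) (t₁ p₀ * c), ?_⟩
    have h := ht₁' p₀
    simp only [d, A, show (∏ q : F, (t₁ q * s₁ q)) = t₁ p₀ * s₁ p₀ * c from hc, map_mul] at h ⊢
    linear_combination (-(π.appLE V _ (hUle p) Tall) * π.appLE V _ (hUle p) c) * h
  have hgen : IsGen L (U p ⊓ π ⁻¹ᵁ Z.basicOpen d)
      (rres (inf_le_left : U p ⊓ π ⁻¹ᵁ Z.basicOpen d ≤ U p) (A p₀) • res L inf_le_left (e p)) :=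
    ((he p).restrict _).smul_unit hAu
  rw [← res_smul, ← hσ p₀, res_res] at hgen
  rw [res_res]
  exact hgen

theorem iso_of_locally_units (π : W ⟶ Z) (s : Z ⟶ W) (hs : s ≫ π = 𝟙 Z)
    (hfun : ∀ U : Z.Opens, IsAffineOpen U → ∀ a : Γ(W, π ⁻¹ᵁ U), IsUnit a → ∃ b, π.app U b = a)
    {L : W.Modules} (hsec : Nonempty ((Scheme.Modules.pullback s).obj L ≅ Coh.structureModule Z))
    (hloc : ∀ z : Z, ∃ (V : Z.Opens) (_ : z ∈ V) (g : Γ(L, π ⁻¹ᵁ V)), IsGen L (π ⁻¹ᵁ V) g) :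
    Nonempty (L ≅ Coh.structureModule W) := by
  choose V hzV g hg using hloc
  obtain ⟨r, hr⟩ := exists_gen_of_iso hsec
  have hsV : ∀ U : Z.Opens, s ⁻¹ᵁ (π ⁻¹ᵁ U) = U := fun U => by
    rw [← Scheme.Hom.comp_preimage, hs]; rfl
  have hsa : ∀ (U : Z.Opens) (b : Γ(Z, U)), s.app _ (π.app U b) = rres (hsV U).le b := fun U b => by
    rw [← CommRingCat.comp_apply, ← Scheme.Hom.comp_app, Scheme.Hom.congr_app hs]
    rfl
  have hnorm : ∀ z, ∃ g' : Γ(L, π ⁻¹ᵁ V z), IsGen L (π ⁻¹ᵁ V z) g' ∧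
      pb s g' = res _ (le_top : s ⁻¹ᵁ (π ⁻¹ᵁ V z) ≤ ⊤) r := by
    intro z
    obtain ⟨a, ha, -⟩ := (isGen_pb s (hg z)).exists_eq le_rfl (res _ (le_top : s ⁻¹ᵁ (π ⁻¹ᵁ V z) ≤ ⊤) r)
    rw [res_self] at ha
    have hau : IsUnit a := by
      obtain ⟨b, hb, -⟩ := hr.exists_eq (le_top : s ⁻¹ᵁ (π ⁻¹ᵁ V z) ≤ ⊤) (pb s (g z))
      refine IsUnit.of_mul_eq_one_right b ((hr.injective (le_top : s ⁻¹ᵁ (π ⁻¹ᵁ V z) ≤ ⊤) ?_).symm)
      rw [one_smul, mul_comm, ← smul_smul, ← hb, ← ha]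
    let a' : Γ(Z, V z) := rres (hsV (V z)).ge a
    refine ⟨π.app (V z) a' • g z, (hg z).smul_unit ((hau.map _).map _), ?_⟩
    rw [Cube.pb_smul, ha, hsa]
    congr 1
    exact (rres_rres (hsV (V z)).ge _ a).trans (rres_self _ _)
  choose g' hg' hg'r using hnorm
  have hcomp : ∀ z z', res L (inf_le_left : π ⁻¹ᵁ V z ⊓ π ⁻¹ᵁ V z' ≤ _) (g' z) =
      res L inf_le_right (g' z') := by
    intro z z'
    obtain ⟨a, ha, -⟩ := (hg' z).exists_eq (inf_le_left : π ⁻¹ᵁ V z ⊓ π ⁻¹ᵁ V z' ≤ _)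
      (res L inf_le_right (g' z'))
    suffices h : a = 1 by rw [ha, h, one_smul]
    choose U hUaff hxU hUle using fun x : (V z ⊓ V z' : Z.Opens) =>
      exists_isAffineOpen_mem_and_subset (U := V z ⊓ V z') x.2
    have hle : ∀ x, π ⁻¹ᵁ U x ≤ π ⁻¹ᵁ V z ⊓ π ⁻¹ᵁ V z' := fun x =>
      le_inf (π.preimage_mono (fun y hy => (hUle x hy).1)) (π.preimage_mono (fun y hy => (hUle x hy).2))
    refine eq_of_local_fun (U := fun x => π ⁻¹ᵁ U x) hle
      (fun p hp => ⟨⟨π p, hp⟩, hxU ⟨π p, hp⟩⟩) _ _ fun x => ?_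
    have hau : IsUnit a := by
      obtain ⟨b, hb, -⟩ := (hg' z').exists_eq (inf_le_right : π ⁻¹ᵁ V z ⊓ π ⁻¹ᵁ V z' ≤ _)
        (res L inf_le_left (g' z))
      refine IsUnit.of_mul_eq_one b (((hg' z).injective inf_le_left ?_).symm)
      rw [one_smul, mul_comm, ← smul_smul, ← ha, ← hb]
    obtain ⟨b, hb⟩ := hfun _ (hUaff x) (rres (hle x) a) (hau.map _)
    rw [map_one, ← hb]
    have h1 := congrArg (fun t => res _ (s.preimage_mono (hle x)) (pb s t)) ha
    simp only [Cube.pb_smul, Cube.pb_res, hg'r, res_smul, res_res] at h1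
    have h2 : rres (s.preimage_mono (hle x)) (s.app _ a) = 1 :=
      (hr.injective le_top ((one_smul _ _).trans h1)).symm
    rw [← app_rres s (hle x), ← hb, hsa] at h2
    have h4 : b = 1 := (rres_bijective_of_eq (S := Z) (hsV (U x)).le (hsV (U x)).ge).1 (h2.trans (map_one _).symm)
    rw [h4, map_one]
  obtain ⟨G, hG⟩ := QCoh.exists_glue L (U := fun z => π ⁻¹ᵁ V z) (V := ⊤) (fun _ => le_top)
    (fun p _ => Opens.mem_iSup.mpr ⟨π p, hzV (π p)⟩) g' hcomp
  exact iso_of_gen G (IsGen.of_local fun p _ =>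
    ⟨π ⁻¹ᵁ V (π p), le_top, hzV (π p), by rw [hG]; exact hg' _⟩)

end Groth.Agent.AffPic52
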