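import Groth.Agent.AffPic52.Core
import Mathlib.AlgebraicGeometry.AffineSpace
import Mathlib.Algebra.MvPolynomial.Nilpotent

/-!
# Units on an affine space over a reduced scheme come from the base
-/

set_option autoImplicit false
set_option backward.isDefEq.respectTransparency false
universe u

open CategoryTheory CategoryTheory.Limits AlgebraicGeometry TopologicalSpace MvPolynomial

noncomputable section

namespace Groth.Agent.AffPic52

variable (ι : Type u)

theorem exists_appTop_eq_of_isUnit (U : Scheme.{u}) [IsAffine U] [IsReduced U]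
    (a : Γ(AffineSpace ι U, ⊤)) (ha : IsUnit a) :
    ∃ c : Γ(U, ⊤), (AffineSpace ι U ↘ U).appTop c = a := by
  let e := eval₂Hom ((AffineSpace ι U ↘ U).appTop).hom (AffineSpace.coord U)
  have he : Function.Bijective e := by
    have h := ConcreteCategory.bijective_of_isIso (AffineSpace.isoOfIsAffine ι U).hom.appTop
    rw [AffineSpace.isoOfIsAffine_hom_appTop] at h
    have h' := ConcreteCategory.bijective_of_isIso (Scheme.ΓSpecIso (.of (MvPolynomial ι Γ(U, ⊤)))).inv
    have := h.comp h'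
    convert this using 1
    funext x
    change _ = (((Scheme.ΓSpecIso _).hom ≫ CommRingCat.ofHom e)) ((Scheme.ΓSpecIso _).inv x)
    rw [← CommRingCat.comp_apply, Iso.inv_hom_id_assoc]
    rfl
  obtain ⟨f, rfl⟩ := he.2 a
  obtain ⟨r, hr, hf⟩ := MvPolynomial.isUnit_iff_eq_C_of_isReduced.mp
    (show IsUnit f by
      obtain ⟨g, hg⟩ := he.2 (↑ha.unit⁻¹)
      exact IsUnit.of_mul_eq_one g (he.1 (by rw [map_mul, hg, map_one]; exact ha.mul_val_inv)))
  refine ⟨r, ?_⟩
  rw [hf]
  exact (eval₂Hom_C _ _ r).symm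

theorem exists_app_eq_of_isUnit (X : Scheme.{u}) [IsReduced X] (U : X.Opens) (hU : IsAffineOpen U)
    (a : Γ(AffineSpace ι X, (AffineSpace ι X ↘ X) ⁻¹ᵁ U)) (ha : IsUnit a) :
    ∃ b, (AffineSpace ι X ↘ X).app U b = a := by
  haveI : IsAffine (U : Scheme.{u}) := hU
  let π := AffineSpace ι X ↘ X
  let m := AffineSpace.map ι U.ι
  have H : IsPullback m (AffineSpace ι U ↘ (U : Scheme.{u})) π U.ι := AffineSpace.isPullback_map U.ι
  haveI : IsOpenImmersion m := MorphismProperty.of_isPullback H.flip inferInstance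
  have hm : ⊤ ≤ m ⁻¹ᵁ (π ⁻¹ᵁ U) := fun y _ => by
    rw [← Scheme.Hom.comp_preimage, show m ≫ π = _ from H.w, Scheme.Hom.comp_preimage,
      Scheme.Opens.ι_preimage_self]
    trivial
  have hm' : π ⁻¹ᵁ U ≤ m.opensRange := fun y hy => by
    show y ∈ Set.range m
    have : y ∈ Set.range (pullback.fst π U.ι) := by
      rw [Scheme.Pullback.range_fst, Scheme.Opens.range_ι]; exact hy
    obtain ⟨y₀, rfl⟩ := this
    exact ⟨H.isoPullback.inv y₀, by rw [← Scheme.Hom.comp_apply, H.isoPullback_inv_fst]⟩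
  have hinj : Function.Injective (m.appLE (π ⁻¹ᵁ U) ⊤ hm) := by
    haveI := m.isIso_app (π ⁻¹ᵁ U) hm'
    haveI : IsIso (m.appLE (π ⁻¹ᵁ U) ⊤ hm) := by
      unfold Scheme.Hom.appLE
      haveI : IsIso (homOfLE hm) := homOfLE_isIso_of_eq _ (le_antisymm le_top hm).symm
      infer_instance
    exact (ConcreteCategory.bijective_of_isIso _).1
  obtain ⟨c, hc⟩ := exists_appTop_eq_of_isUnit ι (U : Scheme.{u}) _ (ha.map (m.appLE (π ⁻¹ᵁ U) ⊤ hm).hom)
  obtain ⟨b, hb⟩ := (ConcreteCategory.bijective_of_isIso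
    (U.ι.appLE U ⊤ (Scheme.Opens.ι_preimage_self U).ge)).2 c
  refine ⟨b, hinj ?_⟩
  rw [← hb] at hc
  refine Eq.trans ?_ hc
  rw [Scheme.Hom.app_eq_appLE, ← CommRingCat.comp_apply, ← CommRingCat.comp_apply, Scheme.Hom.appLE_comp_appLE]
  have e : (AffineSpace ι U ↘ (U : Scheme.{u})).appTop =
      (AffineSpace ι U ↘ (U : Scheme.{u})).appLE ⊤ ⊤ le_rfl := by
    rw [Scheme.Hom.appTop, Scheme.Hom.app_eq_appLE]; rfl
  rw [e, Scheme.Hom.appLE_comp_appLE]
  have hw : m ≫ π = (AffineSpace ι U ↘ (U : Scheme.{u})) ≫ U.ι := H.w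
  simp only [hw, π]

end Groth.Agent.AffPic52
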